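import Mathlib

/-!
# The field with 32 elements
-/

set_option autoImplicit false

namespace Cfsg.Agent.J4W

/-- the field with 32 elements -/
def F32 : Type := Fin 32

namespace F32

instance instDecEq : DecidableEq F32 := inferInstanceAs (DecidableEq (Fin 32))
instance instFintype : Fintype F32 := inferInstanceAs (Fintype (Fin 32))

/-- reading a table -/
def tb (T k : ℕ) : F32 := ⟨(T >>> (5 * k)) % 32, Nat.mod_lt _ (by decide)⟩

instance instZero : Zero F32 := ⟨tb 0 0⟩
instance instOne : One F32 := ⟨tb 1 0⟩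
instance instAdd : Add F32 := ⟨fun a b => tb (a.1 ^^^ b.1) 0⟩
instance instMul : Mul F32 := ⟨fun a b => tb 0x935360fb458b95517726a2df03e383ba19326fe06ce8ad107d363e18bd16d945c64aab839373e7c04d2cb93db0d1cb80f3c355ea88b1d3c90db17fa0b29774d6886c60c939f32e704d18fbf087f0f7800ea491662a3f28f27eec6dbc5757a65c30344f60f11f5c8d128283bbb4dc162692fe8e65ba75c740d0db48a0df657623fa099a89dc05f62f24b75f202f60854be7d8dd6a3039e11319acde16aef6d70089b4d3c19bc3e64764b21d11fa8bc957436e2ee0760f1e2aa37e4d0eae82668b3f22e16ec92fa6c057cb0a076e99b896e057ea2471d9992457ed3ea0a870c7ec562413df2a6791beb470b11dddacb6801443225cf4775be46d78d272ae3fecb16a680e60ebf8efb7cccaf0ada748a9e86b96c488e0298640ca3cfb9a012d0535e99d2547256dbcc27eeb1e20358736713990ae7c23ad5edde0c494fbf4aa9600a6d4568a7c1b3b2d548bfc02e3271741ed98f9e0596f9b6144a690649ebb8798268e3f7867d971c078ab8f4c894165fcd06e0b3768754732f91be9a0871042a7b1fcceb51a5e70adaddc6f0b735a61803b23a71713af868e5d413361b79332a7c49ed960c4986afc2b122dc7977148fb723a1a9e4edf5140e55c7ed1e6f5d85fd9a4c4543cc162d4d01dc9201ae7b33ade4873161394bfcef9684aed5a5c4100bc33e5b0a253483b471f43cc1a4f5dacb7c4b8e04388285b9aeee3728d2f3856dfe675953d8530c0624c3c76570916eac3fab4f9911d0ddfa347a8a09df7f19d6fb4bda309cacf6354b425e62906208021c4142dcde7f5984ed58caf4efb784a9ec29860de7fd9c6f55a5ed184e5f7358b52507314831040ffbbcdeb38bdab49ca307b9ac5a928398a4188200000000000000000000000000000000000000000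 (32 * a.1 + b.1)⟩
instance instNeg : Neg F32 := ⟨id⟩
instance instInv : Inv F32 := ⟨fun a => tb 0xdd263fd5512a35ee8b0b699e78649663ae9e4820 a.1⟩

instance instField : Field F32 := Field.ofMinimalAxioms F32 (by decide +kernel) (by decide +kernel)
  (by decide +kernel) (by decide +kernel) (by decide +kernel) (by decide +kernel) (by decide +kernel)
  (by decide +kernel) (by decide +kernel) (by decide +kernel)

theorem card_eq : Fintype.card F32 = 32 := Fintype.card_fin 32

/-- the discrete logarithm -/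
def lg (a : F32) : ℕ := (tb 0x7e1cd82735d72c78f944bb114d9ba35cca290400 a.1).1
/-- the Zech logarithm -/
def zl (i : ℕ) : ℕ := (tb 0x447a372af61f28587c9c35d799214b6c4ae9640 i).1

theorem lg_mul : ∀ a b : F32, a ≠ 0 → b ≠ 0 → lg (a * b) = (lg a + lg b) % 31 := by decide +kernel
theorem lg_add : ∀ a b : F32, a ≠ 0 → b ≠ 0 → a ≠ b → a + b ≠ 0 ∧ 0 < (lg b + 31 - lg a) % 31 ∧
    (lg a + (lg b + 31 - lg a) % 31) % 31 = lg b ∧ (lg a + zl ((lg b + 31 - lg a) % 31)) % 31 = lg (a + b) := by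
  decide +kernel
theorem lg_inv : ∀ a : F32, a + a = 0 ∧ -a = a ∧ (a ≠ 0 → (lg a + lg a⁻¹) % 31 = 0) := by decide +kernel
theorem lg_one : lg 1 = 0 := by decide +kernel
theorem exists_lg : ∃ a : F32, a ≠ 0 ∧ 2 * lg a % 31 = 1 := by decide +kernel
theorem exists_sq : ∃ a : F32, a ≠ 0 ∧ a * a ≠ 1 := by decide +kernel

end F32

end Cfsg.Agent.J4W
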